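import Cfsg.Agent.H776.ThBasic
import Cfsg.Agent.H776.ThRels
import Cfsg.Agent.H744.EssRad
import Cfsg.Agent.H752.Mp
import Cfsg.Agent.H752.Inv
import Cfsg.Agent.H759.FusNormal
import Cfsg.Agent.H347.Th.ThmI
import Cfsg.Agent.H835.Th2.ThmII
import Cfsg.Agent.H418.ThBeta
import Cfsg.Agent.H184.FusBad
import Cfsg.Agent.H12.FusFr
import Cfsg.Agent.H573.ThSigns

/-!
The inputs of the fusion argument, proved in the imported modules.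
-/

set_option autoImplicit false
set_option linter.style.longLine false

namespace Cfsg.Agent.H776.ThS
open Subgroup Cfsg Cfsg.Agent.H752

theorem thmI {Q : Subgroup P} {A : Set (P → P)} (h : Ctx Q A) (hSE : SE Q A Z1) (hmov : ∃ a ∈ A, a u10 ∉ Z1) :
    Q = E1 :=
  Cfsg.Agent.H347.Th.thmI h hSE hmov

theorem thmII {Q : Subgroup P} {A : Set (P → P)} (h : Ctx Q A) (hSE : SE Q A Z2) (hcore : Core Q A) (hW : Z2 ≤ Q)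
    (hfix : ∀ a ∈ A, a u10 ∈ Z1) (hmov : ∃ a ∈ A, a u9 ∉ Z2) :
    Q = E2 ∧ ∀ a ∈ A, ∀ w ∈ Z2, a w ∈ Z3 :=
  Cfsg.Agent.H835.Th2.thmII h hSE hcore hW hfix hmov

theorem thmBeta {Q : Subgroup P} {A : Set (P → P)} (h : Ctx Q A) (hSE : SE Q A Z2) (hQ : Q ≤ E1) (hW : Z2 ≤ Q)
    (hmov : ∃ a ∈ A, ∃ w ∈ Z2, a w ∉ Z2) (hk : ∃ k ∈ A, (∀ w ∈ Z2, k w ∈ Z2) ∧ k u10 ∉ Z1)
    {A1 : Set (P → P)} (h1 : Ctx E1 A1) (h1m : ∃ α ∈ A1, α u10 ∉ Z1)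
    (htr : ∀ α ∈ A1, ∀ β ∈ A1, (∀ x ∈ E1, β (α x) = x) → ∀ y : P,
      (∀ x ∈ Q, ∃ x' ∈ Q, y * α x * y⁻¹ = α x') → (fun x => β (y * α x * y⁻¹)) ∈ A)
    (hfn : ∀ α ∈ A1, ∀ N : Subgroup P, (∀ n ∈ N, ∀ x ∈ Q, ∃ x' ∈ Q, n * α x * n⁻¹ = α x') →
      Nat.card N ≤ Nat.card (normalizer (Q : Set P))) :
    ∀ a ∈ A, (∃ w ∈ Z2, a w ∉ Z2) → ∀ w ∈ Z2, w ≠ 1 → a w ∉ N5 ∧ ∀ z ∈ Z2, ∃ n ∈ N5, n * a w * n⁻¹ = a w * z :=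
  Cfsg.Agent.H418.ThB.thmBeta h hSE hQ hW hmov hk h1 h1m htr hfn

/-- F1 -/
theorem exists_bad {Ω : Type*} [Group Ω] {S : Subgroup Ω} [Finite S] {p : ℕ} [Fact p.Prime] (hS : IsPGroup p S)
    {F : FusionSystem S} (hF : F.IsSaturated p) {W : Subgroup Ω} (hWS : W ≤ S)
    (hWtop : ∀ f : Ω → Ω, Mp F S f → ∀ x ∈ W, f x ∈ W) (hW : ¬ F.StronglyClosed W) :
    ∃ Q : Subgroup Ω, Q < S ∧ F.IsEssential p Q ∧ F.IsFullyAutomized p Q ∧ F.IsReceptive Q ∧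
      (∃ f : Ω → Ω, Mp F Q f ∧ (∀ x ∈ Q, f x ∈ Q) ∧ ∃ x ∈ Q, x ∈ W ∧ f x ∉ W) ∧
      (∀ (R : Subgroup Ω) (f : Ω → Ω), Nat.card Q < Nat.card R → Mp F R f → ∀ x ∈ R, (x ∈ W ↔ f x ∈ W)) :=
  Cfsg.Agent.H184.FusBad.exists_bad hS hF hWS hWtop hW

/-- F2 -/
theorem se_of_essential {Ω : Type*} [Group Ω] {S : Subgroup Ω} [Finite S] {p : ℕ} [Fact p.Prime] (hS : IsPGroup p S)
    {F : FusionSystem S} (hF : F.IsSaturated p) {Q U : Subgroup Ω} (hQS : Q < S) (hQ : F.IsEssential p Q) (hU : U ≤ Q)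
    (hext : ∀ (R : Subgroup Ω) (f : Ω → Ω), Q < R → Mp F R f → (∀ x ∈ Q, f x ∈ Q) → ∀ x ∈ U, f x ∈ U)
    (hmov : ∃ f : Ω → Ω, Mp F Q f ∧ (∀ x ∈ Q, f x ∈ Q) ∧ ∃ x ∈ U, f x ∉ U)
    {u a b : Ω → Ω} (hu : Mp F Q u) (huQ : ∀ x ∈ Q, u x ∈ Q) (hup : ∃ k : ℕ, ∀ x ∈ Q, u^[p ^ k] x = x)
    (hui : ¬ ∃ q ∈ Q, ∀ x ∈ Q, u x = q * x * q⁻¹) (ha : Mp F Q a) (haQ : ∀ x ∈ Q, a x ∈ Q)
    (hb : Mp F Q b) (hbQ : ∀ x ∈ Q, b x ∈ Q) (hua : ∀ w ∈ U, ∃ w' ∈ U, u (a w) = a w')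
    (hub : ∀ w ∈ U, ∃ w' ∈ U, u (b w) = b w') : ∀ w ∈ U, ∃ w' ∈ U, a w = b w' :=
  Cfsg.Agent.H184.FusBad.se_of_essential hS hF hQS hQ hU hext hmov hu huQ hup hui ha haQ hb hbQ hua hub

theorem core_of_essential {Ω : Type*} [Group Ω] {S : Subgroup Ω} [Finite S] {p : ℕ} [Fact p.Prime] (hS : IsPGroup p S)
    {F : FusionSystem S} {Q D : Subgroup Ω} (hQ : F.IsEssential p Q) (hD : D ≤ Q)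
    (hDA : ∀ f : Ω → Ω, Mp F Q f → (∀ x ∈ Q, f x ∈ Q) → ∀ d ∈ D, f d ∈ D) {n : Ω} (hnS : n ∈ S)
    (hn : n ∈ normalizer (Q : Set Ω)) (h1 : ∀ q ∈ Q, n * q * n⁻¹ * q⁻¹ ∈ D) (h2 : ∀ d ∈ D, n * d = d * n) : n ∈ Q :=
  Cfsg.Agent.H184.FusBad.core_of_essential hS hQ hD hDA hnS hn h1 h2

/-- F3 -/
theorem frattini_ext {Ω : Type*} [Group Ω] {S : Subgroup Ω} [Finite S] {p : ℕ} [Fact p.Prime] (hS : IsPGroup p S)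
    {F : FusionSystem S} (hF : F.IsSaturated p) {E U : Subgroup Ω} (hES : E ≤ S)
    (hEn : ∀ s ∈ S, ∀ x ∈ E, s * x * s⁻¹ ∈ E) (hUE : U ≤ E)
    (hUA : ∀ f : Ω → Ω, Mp F E f → (∀ x ∈ E, f x ∈ E) → ∀ x ∈ U, f x ∈ U)
    (M : Set (Ω → Ω)) (hM : ∀ f ∈ M, Mp F E f ∧ ∀ x ∈ E, f x ∈ E)
    (hMc : ∀ f ∈ M, ∀ g ∈ M, (fun x => f (g x)) ∈ M) (hMe : ∀ f ∈ M, ∀ g : Ω → Ω, (∀ x ∈ E, g x = f x) → g ∈ M)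
    (hMi : ∀ f ∈ M, ∃ g ∈ M, ∀ x ∈ E, g (f x) = x ∧ f (g x) = x)
    (hMn : ∀ f ∈ M, ∀ a b : Ω → Ω, Mp F E a → Mp F E b → (∀ x ∈ E, a x ∈ E) → (∀ x ∈ E, b x ∈ E) →
      (∀ x ∈ E, b (a x) = x ∧ a (b x) = x) → (fun x => a (f (b x))) ∈ M)
    {m : Ω → Ω} (hm : m ∈ M) (hmU : ∀ x ∈ U, m x = x⁻¹) :
    ∃ j : Ω → Ω, Mp F S j ∧ j ∈ M ∧ ∀ x ∈ U, j x = x⁻¹ :=
  Cfsg.Agent.H12.FusFr.frattini_ext hS hF hES hEn hUE hUA M hM hMc hMe hMi hMn hm hmU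

theorem inner_of_pelement {Ω : Type*} [Group Ω] {S : Subgroup Ω} [Finite S] {p : ℕ} [Fact p.Prime] (hS : IsPGroup p S)
    {F : FusionSystem S} (hF : F.IsSaturated p) {g : Ω → Ω} (hg : Mp F S g) (hgp : ∃ k : ℕ, ∀ x ∈ S, g^[p ^ k] x = x) :
    ∃ s ∈ S, ∀ x ∈ S, g x = s * x * s⁻¹ :=
  Cfsg.Agent.H12.FusFr.inner_of_pelement hS hF hg hgp

/-- F4 -/
theorem signs_one (g : P → P) (hm : ∀ x y, g (x * y) = g x * g y) (hi : Function.Injective g)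
    (hZ : ∀ x ∈ Z2, g x = x) : ∃ k : ℕ, ∀ x, g^[3 ^ k] x = x :=
  Cfsg.Agent.H573.ThSigns.signs_one g hm hi hZ

theorem signs_neg (g : P → P) (hm : ∀ x y, g (x * y) = g x * g y) (hi : Function.Injective g)
    (hZ : ∀ x ∈ Z2, g x = x⁻¹) : (∀ x ∈ E1, g x * x ∈ Z6) ∧ (∀ x ∈ Z6, g x * x ∈ Y7) ∧ (∀ x ∈ Y7, g x * x ∈ X6) ∧
      (∀ x ∈ X6, g x * x ∈ N5) :=
  Cfsg.Agent.H573.ThSigns.signs_neg g hm hi hZ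

end Cfsg.Agent.H776.ThS
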