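import Cfsg.Agent.H776.ThCtx
import Mathlib.GroupTheory.Commutator.Basic

/-!
Basic facts on the characteristic subgroups of the model group.
-/

set_option autoImplicit false
set_option linter.style.longLine false

namespace Cfsg.Agent.H776.ThS

open Subgroup

/-! ### inclusions -/

theorem Z1_le_Z2 : Z1 ≤ Z2 := fun _ h => ⟨h.1, h.2.1, h.2.2.1, h.2.2.2.1, h.2.2.2.2.1, h.2.2.2.2.2.1, h.2.2.2.2.2.2.1,
  h.2.2.2.2.2.2.2.1⟩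
theorem Z2_le_Z3 : Z2 ≤ Z3 := fun _ h => ⟨h.1, h.2.1, h.2.2.1, h.2.2.2.1, h.2.2.2.2.1, h.2.2.2.2.2.1, h.2.2.2.2.2.2.1⟩
theorem Z3_le_Z4 : Z3 ≤ Z4 := fun _ h => ⟨h.1, h.2.1, h.2.2.1, h.2.2.2.1, h.2.2.2.2.1, h.2.2.2.2.2.1⟩
theorem Z4_le_N5 : Z4 ≤ N5 := fun _ h => ⟨h.1, h.2.1, h.2.2.1, h.2.2.2.1, h.2.2.2.2.1⟩
theorem N5_le_X6 : N5 ≤ X6 := fun _ h => ⟨h.1, h.2.1, h.2.2.1, h.2.2.2.1⟩
theorem X6_le_Y7 : X6 ≤ Y7 := fun _ h => ⟨h.1, h.2.1, h.2.2.1⟩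
theorem Y7_le_Z6 : Y7 ≤ Z6 := fun _ h => ⟨h.1, h.2.1⟩
theorem Z6_le_E1 : Z6 ≤ E1 := fun _ h => h.1
theorem Z6_le_E2 : Z6 ≤ E2 := fun _ h => h.2
theorem Z3_le_N5 : Z3 ≤ N5 := Z3_le_Z4.trans Z4_le_N5
theorem Z2_le_N5 : Z2 ≤ N5 := Z2_le_Z3.trans Z3_le_N5
theorem Z1_le_N5 : Z1 ≤ N5 := Z1_le_Z2.trans Z2_le_N5
theorem X6_le_E1 : X6 ≤ E1 := fun _ h => h.1
theorem Y7_le_E1 : Y7 ≤ E1 := fun _ h => h.1
theorem N5_le_E1 : N5 ≤ E1 := fun _ h => h.1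
theorem Z2_le_E1 : Z2 ≤ E1 := fun _ h => h.1

/-- conjugation of elements of `N5` -/
theorem N5_comm {c x : P} (hc : c ∈ N5) : c * x = x * c ↔ cx c x = c := by
  rw [N5_mul c x hc]
  exact mul_right_inj x

theorem N5_conj' (c x : P) (hc : c ∈ N5) : x * c * x⁻¹ = cx c x⁻¹ := by
  rw [← N5_conj c x⁻¹ hc, inv_inv]

theorem inv_x1 (x : P) : x⁻¹.x1 = -x.x1 := by
  have h := mul_x1 x x⁻¹
  rw [mul_inv_cancel, one_x1] at h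
  linear_combination -h

theorem inv_x2 (x : P) : x⁻¹.x2 = -x.x2 := by
  have h := mul_x2 x x⁻¹
  rw [mul_inv_cancel, one_x2] at h
  linear_combination -h

/-- products of elements of `N5` -/
theorem N5_mul_eq {m n : P} (hm : m ∈ N5) (hn : n ∈ N5) : m * n = ⟨0, 0, 0, 0, 0, m.x6 + n.x6, m.x7 + n.x7, m.x8 + n.x8,
    m.x9 + n.x9, m.x10 + n.x10⟩ := by
  rw [mulN m n hn, hm.1, hm.2.1, hm.2.2.1, hm.2.2.2.1, hm.2.2.2.2]

theorem N5_commute {m n : P} (hm : m ∈ N5) (hn : n ∈ N5) : m * n = n * m := by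
  rw [N5_mul_eq hm hn, N5_mul_eq hn hm]
  ext <;> simp [add_comm]

/-- elements of `N5` by their coordinates -/
theorem N5_ext {m n : P} (hm : m ∈ N5) (hn : n ∈ N5) (h6 : m.x6 = n.x6) (h7 : m.x7 = n.x7) (h8 : m.x8 = n.x8)
    (h9 : m.x9 = n.x9) (h10 : m.x10 = n.x10) : m = n := by
  obtain ⟨a1, a2, a3, a4, a5⟩ := hm
  obtain ⟨b1, b2, b3, b4, b5⟩ := hn
  ext
  · rw [a1, b1]
  · rw [a2, b2]
  · rw [a3, b3]
  · rw [a4, b4]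
  · rw [a5, b5]
  · exact h6
  · exact h7
  · exact h8
  · exact h9
  · exact h10

/-- powers in `N5` -/
theorem N5_pow {m : P} (hm : m ∈ N5) (k : ℕ) : m ^ k = ⟨0, 0, 0, 0, 0, k * m.x6, k * m.x7, k * m.x8, k * m.x9,
    k * m.x10⟩ := by
  induction k with
  | zero =>
    rw [pow_zero]
    apply N5_ext (one_mem N5) ⟨rfl, rfl, rfl, rfl, rfl⟩ <;> simp [one_x6, one_x7, one_x8, one_x9, one_x10]
  | succ k ih =>
    rw [pow_succ, ih, N5_mul_eq ⟨rfl, rfl, rfl, rfl, rfl⟩ hm]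
    ext <;> simp <;> ring

theorem N5_cube {m : P} (hm : m ∈ N5) : m ^ 3 = 1 := by
  rw [N5_pow hm]
  have h3 : ((3 : ℕ) : ZMod 3) = 0 := rfl
  rw [h3]
  apply N5_ext ⟨rfl, rfl, rfl, rfl, rfl⟩ (one_mem N5) <;> simp [one_x6, one_x7, one_x8, one_x9, one_x10]

theorem N5_inv {m : P} (hm : m ∈ N5) : m⁻¹ = ⟨0, 0, 0, 0, 0, -m.x6, -m.x7, -m.x8, -m.x9, -m.x10⟩ := by
  rw [inv_eq_iff_mul_eq_one, N5_mul_eq hm ⟨rfl, rfl, rfl, rfl, rfl⟩]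
  apply N5_ext ⟨rfl, rfl, rfl, rfl, rfl⟩ (one_mem N5) <;> simp [one_x6, one_x7, one_x8, one_x9, one_x10]

theorem u10_mem : u10 ∈ Z1 := ⟨rfl, rfl, rfl, rfl, rfl, rfl, rfl, rfl, rfl⟩
theorem u9_mem : u9 ∈ Z2 := ⟨rfl, rfl, rfl, rfl, rfl, rfl, rfl, rfl⟩
theorem u9_not_mem : u9 ∉ Z1 := fun h => absurd h.2.2.2.2.2.2.2.2 (by decide)
theorem u10_ne_one : u10 ≠ 1 := fun h => absurd (congrArg V.x10 h) (by decide)
theorem u8_mem : u8 ∈ Z3 := ⟨rfl, rfl, rfl, rfl, rfl, rfl, rfl⟩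

theorem zmod3_cast (a : ZMod 3) : ((a.val : ℕ) : ZMod 3) = a := ZMod.natCast_zmod_val a

theorem mem_Z1_pow {x : P} (hx : x ∈ Z1) : x = u10 ^ x.x10.val := by
  rw [N5_pow (Z1_le_N5 u10_mem), zmod3_cast]
  obtain ⟨a1, a2, a3, a4, a5, a6, a7, a8, a9⟩ := hx
  ext <;> simp [u10, a1, a2, a3, a4, a5, a6, a7, a8, a9]

theorem mem_Z2_pow {x : P} (hx : x ∈ Z2) : x = u9 ^ x.x9.val * u10 ^ x.x10.val := by
  rw [N5_pow (Z1_le_N5 u10_mem), zmod3_cast, N5_pow (Z2_le_N5 u9_mem), zmod3_cast,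
    N5_mul_eq ⟨rfl, rfl, rfl, rfl, rfl⟩ ⟨rfl, rfl, rfl, rfl, rfl⟩]
  obtain ⟨a1, a2, a3, a4, a5, a6, a7, a8⟩ := hx
  ext <;> simp [u10, u9, a1, a2, a3, a4, a5, a6, a7, a8]

theorem mem_Z3_pow {x : P} (hx : x ∈ Z3) : x = u8 ^ x.x8.val * u9 ^ x.x9.val * u10 ^ x.x10.val := by
  have e : u8 ^ x.x8.val * u9 ^ x.x9.val = ⟨0, 0, 0, 0, 0, 0, 0, x.x8, x.x9, 0⟩ := by
    rw [N5_pow (Z2_le_N5 u9_mem), zmod3_cast, N5_pow (Z3_le_N5 u8_mem),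
      zmod3_cast, N5_mul_eq ⟨rfl, rfl, rfl, rfl, rfl⟩ ⟨rfl, rfl, rfl, rfl, rfl⟩]
    ext <;> simp [u9, u8]
  rw [e, N5_pow (Z1_le_N5 u10_mem), zmod3_cast, N5_mul_eq ⟨rfl, rfl, rfl, rfl, rfl⟩ ⟨rfl, rfl, rfl, rfl, rfl⟩]
  obtain ⟨a1, a2, a3, a4, a5, a6, a7⟩ := hx
  ext <;> simp [u10, a1, a2, a3, a4, a5, a6, a7]

/-- `Z1` is central -/
theorem Z1_comm {z : P} (hz : z ∈ Z1) (x : P) : z * x = x * z := by
  rw [N5_comm (Z1_le_N5 hz)]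
  obtain ⟨a1, a2, a3, a4, a5, a6, a7, a8, a9⟩ := hz
  ext <;> simp [cx, a1, a2, a3, a4, a5, a6, a7, a8, a9]

/-- action on `Z2` -/
theorem Z2_mul {z : P} (hz : z ∈ Z2) (x : P) : z * x = x * z * ⟨0, 0, 0, 0, 0, 0, 0, 0, 0, x.x1 * z.x9⟩ := by
  rw [N5_mul z x (Z2_le_N5 hz), mul_assoc]
  congr 1
  obtain ⟨a1, a2, a3, a4, a5, a6, a7, a8⟩ := hz
  rw [N5_mul_eq ⟨a1, a2, a3, a4, a5⟩ ⟨rfl, rfl, rfl, rfl, rfl⟩]
  ext <;> simp [cx, a6, a7, a8]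

theorem Z2_conj {z : P} (hz : z ∈ Z2) (x : P) : x * z * x⁻¹ * z⁻¹ ∈ Z1 := by
  have h := Z2_mul hz x⁻¹
  have h2 : x * z * x⁻¹ * z⁻¹ = x * (z * x⁻¹) * z⁻¹ := by group
  rw [h2, h]
  have h3 : x * (x⁻¹ * z * (⟨0, 0, 0, 0, 0, 0, 0, 0, 0, x⁻¹.x1 * z.x9⟩ : P)) * z⁻¹ =
      z * (⟨0, 0, 0, 0, 0, 0, 0, 0, 0, x⁻¹.x1 * z.x9⟩ : P) * z⁻¹ := by group
  have h4 : (⟨0, 0, 0, 0, 0, 0, 0, 0, 0, x⁻¹.x1 * z.x9⟩ : P) ∈ Z1 := ⟨rfl, rfl, rfl, rfl, rfl, rfl, rfl, rfl, rfl⟩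
  rw [h3, ← Z1_comm h4 z, mul_inv_cancel_right]
  exact h4

/-- `E1` centralizes `Z2` -/
theorem Z2_comm {z x : P} (hz : z ∈ Z2) (hx : x ∈ E1) : z * x = x * z := by
  rw [mem_E1] at hx
  rw [Z2_mul hz x, hx, zero_mul]
  exact mul_one _

theorem mem_E1_of_comm {x : P} (h : u9 * x = x * u9) : x ∈ E1 := by
  rw [N5_comm (Z2_le_N5 u9_mem)] at h
  have h2 := congrArg V.x10 h
  simp [cx, u9] at h2
  exact h2

/-- an element of `E1` commuting with `E1` is in `Z2` -/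
theorem center_E1 {x : P} (hx : x ∈ E1) (h : ∀ y ∈ E1, x * y = y * x) : x ∈ Z2 := by
  have hu : ∀ c ∈ N5, cx c x = c := fun c hc => (N5_comm hc).1 (h c (N5_le_E1 hc)).symm
  rw [mem_E1] at hx
  have h8 := hu u8 (Z3_le_N5 u8_mem)
  have h7 := hu u7 ⟨rfl, rfl, rfl, rfl, rfl⟩
  have h6 := hu u6 ⟨rfl, rfl, rfl, rfl, rfl⟩
  have a2 := congrArg V.x9 h8
  have a3 := congrArg V.x10 h8
  have a4 := congrArg V.x10 h7
  have a5 := congrArg V.x10 h6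
  simp only [cx, u8, u7, u6, hx] at a2 a3 a4 a5
  have b2 : x.x2 = 0 := by linear_combination -a2
  have b3 : x.x3 = 0 := by linear_combination -a3
  rw [b2, b3] at a4 a5
  have b4 : x.x4 = 0 := by linear_combination -a4
  rw [b4] at a5
  have b5 : x.x5 = 0 := by linear_combination a5
  have hN : x ∈ N5 := ⟨hx, b2, b3, b4, b5⟩
  have c5 := congrArg V.x10 ((N5_comm hN).1 (h u5 rfl))
  have c4 := congrArg V.x10 ((N5_comm hN).1 (h u4 rfl))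
  have c3 := congrArg V.x10 ((N5_comm hN).1 (h u3 rfl))
  simp only [cx, u5, u4, u3] at c5 c4 c3
  have b6 : x.x6 = 0 := by linear_combination c5
  rw [b6] at c4 c3
  have b7 : x.x7 = 0 := by linear_combination -c4
  rw [b7] at c3
  have b8 : x.x8 = 0 := by linear_combination -c3
  exact ⟨hx, b2, b3, b4, b5, b6, b7, b8⟩

/-- the centre of `P` is `Z1` -/
theorem center_P {x : P} (h : ∀ y, x * y = y * x) : x ∈ Z1 := by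
  have h1 : x ∈ E1 := mem_E1_of_comm (h u9).symm
  have h2 := center_E1 h1 fun y _ => h y
  have c1 := congrArg V.x10 ((N5_comm (Z2_le_N5 h2)).1 (h u1))
  obtain ⟨a1, a2, a3, a4, a5, a6, a7, a8⟩ := h2
  simp only [cx, u1, a6, a7] at c1
  exact ⟨a1, a2, a3, a4, a5, a6, a7, a8, by linear_combination c1⟩

/-- characterization of `Z2` -/
theorem mem_Z2_of {x : P} (h : ∀ y, ∃ z ∈ Z1, y * x = x * y * z) : x ∈ Z2 := by
  have hu : ∀ c ∈ N5, (cx c x).x7 = c.x7 ∧ (cx c x).x8 = c.x8 ∧ (cx c x).x9 = c.x9 := by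
    intro c hc
    obtain ⟨z, hz, h1⟩ := h c
    rw [N5_mul c x hc, mul_assoc, mul_right_inj, N5_mul_eq hc (Z1_le_N5 hz)] at h1
    obtain ⟨-, -, -, -, -, -, z7, z8, z9⟩ := hz
    rw [h1]
    simp [z7, z8, z9]
  have a1 := (hu u7 ⟨rfl, rfl, rfl, rfl, rfl⟩).2.1
  have a2 := (hu u8 ⟨rfl, rfl, rfl, rfl, rfl⟩).2.2
  have a3 := (hu u7 ⟨rfl, rfl, rfl, rfl, rfl⟩).2.2
  have a4 := (hu u6 ⟨rfl, rfl, rfl, rfl, rfl⟩).2.2
  simp only [cx, u6, u7, u8] at a1 a2 a3 a4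
  have b1 : x.x1 = 0 := by linear_combination -a1
  have b2 : x.x2 = 0 := by linear_combination -a2
  rw [b1, b2] at a3 a4
  have b3 : x.x3 = 0 := by linear_combination -a3
  rw [b3] at a4
  have b4 : x.x4 = 0 := by linear_combination -a4
  have hxE : x ∈ E1 := b1
  have b5 : x.x5 = 0 := by
    obtain ⟨z, hz, h1⟩ := h u2
    have h2 := E1_mul u2 x rfl hxE
    rw [h1, mul_right_inj] at h2
    have h3 := congrArg V.x6 h2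
    simp only [ce, u2] at h3
    rw [hz.2.2.2.2.2.1] at h3
    linear_combination h3
  have hN : x ∈ N5 := ⟨b1, b2, b3, b4, b5⟩
  have hv : ∀ y, (cx x y).x7 = x.x7 ∧ (cx x y).x8 = x.x8 ∧ (cx x y).x9 = x.x9 := by
    intro y
    obtain ⟨z, hz, h1⟩ := h y
    have h2 : x * y = y * (x * z⁻¹) := by
      rw [← mul_assoc, h1, mul_inv_cancel_right]
    rw [N5_mul x y hN, mul_right_inj, N5_mul_eq hN (inv_mem (Z1_le_N5 hz))] at h2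
    have hz' := Z1.inv_mem hz
    obtain ⟨-, -, -, -, -, -, z7, z8, z9⟩ := hz'
    rw [h2]
    simp [z7, z8, z9]
  have c6 := (hv u1).1
  have c7 := (hv u1).2.1
  have c8 := (hv u2).2.2
  simp only [cx, u1, u2] at c6 c7 c8
  have b6 : x.x6 = 0 := by linear_combination c6
  rw [b6] at c7 c8
  have b7 : x.x7 = 0 := by linear_combination -c7
  rw [b7] at c8
  have b8 : x.x8 = 0 := by linear_combination -c8
  exact ⟨b1, b2, b3, b4, b5, b6, b7, b8⟩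

theorem Z2_comm' {x : P} (hx : x ∈ Z2) (y : P) : ∃ z ∈ Z1, y * x = x * y * z := by
  have h := Z2_conj hx y
  refine ⟨_, h, ?_⟩
  rw [← Z1_comm h]
  group

/-- an element outside `Z1` and `Z1` generate `Z2` -/
theorem Z2_le_of {H : Subgroup P} (h1 : u10 ∈ H) {x : P} (hx : x ∈ Z2) (hx1 : x ∉ Z1) (hxH : x ∈ H) : Z2 ≤ H := by
  have h9 : x.x9 ≠ 0 := fun h => hx1 ⟨hx.1, hx.2.1, hx.2.2.1, hx.2.2.2.1, hx.2.2.2.2.1, hx.2.2.2.2.2.1,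
    hx.2.2.2.2.2.2.1, hx.2.2.2.2.2.2.2, h⟩
  have hu : u9 ∈ H := by
    have hx' : u9 = x ^ x.x9.val * u10 ^ (-(x.x9 * x.x10)).val := by
      rw [N5_pow (Z2_le_N5 hx), zmod3_cast, N5_pow (Z1_le_N5 u10_mem), zmod3_cast,
        N5_mul_eq ⟨rfl, rfl, rfl, rfl, rfl⟩ ⟨rfl, rfl, rfl, rfl, rfl⟩]
      obtain ⟨a1, a2, a3, a4, a5, a6, a7, a8⟩ := hx
      have h9' : x.x9 * x.x9 = 1 := by
        revert h9
        generalize x.x9 = a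
        revert a
        decide
      ext <;> simp [u10, u9, a6, a7, a8, h9']
    rw [hx']
    exact mul_mem (pow_mem hxH _) (pow_mem h1 _)
  intro y hy
  rw [mem_Z2_pow hy]
  exact mul_mem (pow_mem hu _) (pow_mem h1 _)

end Cfsg.Agent.H776.ThS
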