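import Cfsg.Agent.H776.ThSub

/-!
Facts on commutators and cubes in the model.
-/

set_option autoImplicit false
set_option linter.style.longLine false

namespace Cfsg.Agent.H776.ThS

/-! ### elements of `N5` -/

theorem mulN (x n : P) (hn : n ∈ N5) : x * n = ⟨x.x1, x.x2, x.x3, x.x4, x.x5, x.x6 + n.x6, x.x7 + n.x7, x.x8 + n.x8,
    x.x9 + n.x9, x.x10 + n.x10⟩ := by
  obtain ⟨h1, h2, h3, h4, h5⟩ := hn
  apply V.ext
  · show (x * n).x1 = _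
    rw [mul_x1, h1, add_zero]
  · show (x * n).x2 = _
    rw [mul_x2, h2, add_zero]
  · show (x * n).x3 = _
    rw [mul_x3, h1, h3]; ring
  · show (x * n).x4 = _
    rw [mul_x4, h1, h4]; ring
  · show (x * n).x5 = _
    rw [mul_x5, h1, h5]; ring
  · show (x * n).x6 = _
    rw [mul_x6, h1, h2]; ring
  · show (x * n).x7 = _
    rw [mul_x7, h1, h2, h3]; ring
  · show (x * n).x8 = _
    rw [mul_x8, h1, h3, h4]; ring
  · exact mulN_x9 x n h1 h2 h3 h4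
  · exact mulN_x10 x n h1 h2 h3 h4 h5

/-- two elements with the same first five coordinates differ by an element of `N5` -/
theorem exists_N5 (x y : P) (h1 : x.x1 = y.x1) (h2 : x.x2 = y.x2) (h3 : x.x3 = y.x3) (h4 : x.x4 = y.x4)
    (h5 : x.x5 = y.x5) : x = y * ⟨0, 0, 0, 0, 0, x.x6 - y.x6, x.x7 - y.x7, x.x8 - y.x8, x.x9 - y.x9, x.x10 - y.x10⟩ := by
  rw [mulN _ _ ⟨rfl, rfl, rfl, rfl, rfl⟩]
  ext
  · exact h1
  · exact h2
  · exact h3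
  · exact h4
  · exact h5
  all_goals
    simp

/-- conjugate of an element of `N5` -/
def cx (c x : P) : P := ⟨0, 0, 0, 0, 0, c.x6, c.x7 + x.x1 * c.x6, c.x8 - x.x1 * c.x7 + x.x1 ^ 2 * c.x6,
  c.x9 - x.x4 * c.x6 - x.x3 * c.x7 - x.x2 * c.x8 + x.x2 * c.x6 - x.x1 * x.x3 * c.x6 + x.x1 * x.x2 * c.x7
    - x.x1 ^ 2 * x.x2 * c.x6,
  c.x10 + x.x5 * c.x6 - x.x4 * c.x7 - x.x3 * c.x8 + x.x3 * c.x6 + x.x2 * c.x7 + x.x1 * c.x9 - x.x1 * x.x4 * c.x6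
    + x.x1 * x.x3 * c.x7 + x.x1 * x.x2 * c.x6 - x.x1 ^ 2 * x.x3 * c.x6⟩

theorem cx_mem (c x : P) : cx c x ∈ N5 := ⟨rfl, rfl, rfl, rfl, rfl⟩

theorem N5_mul (c x : P) (hc : c ∈ N5) : c * x = x * cx c x := by
  rw [mulN _ _ (cx_mem c x)]
  obtain ⟨h1, h2, h3, h4, h5⟩ := hc
  rw [mul_eq]
  ext <;> simp only [R1, R2, R3, R4, R5, R6, R7, R8, R9, R10, A3, h1, h2, h3, h4, h5, cx] <;> ring

theorem N5_conj (c x : P) (hc : c ∈ N5) : x⁻¹ * c * x = cx c x := by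
  rw [mul_assoc, N5_mul c x hc, inv_mul_cancel_left]

/-- commutator of elements of `E1` -/
def ce (x y : P) : P := ⟨0, 0, 0, 0, 0, x.x5 * y.x2 - y.x5 * x.x2, x.x5 * y.x3 - x.x4 * y.x2 - y.x5 * x.x3 + y.x4 * x.x2,
  x.x5 * y.x4 - x.x4 * y.x3 - y.x5 * x.x4 + y.x4 * x.x3, (x * y).x9 - (y * x).x9, (x * y).x10 - (y * x).x10⟩

theorem ce_mem (x y : P) : ce x y ∈ N5 := ⟨rfl, rfl, rfl, rfl, rfl⟩

theorem E1_mul (x y : P) (hx : x ∈ E1) (hy : y ∈ E1) : x * y = y * x * ce x y := by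
  rw [mem_E1] at hx hy
  have h := exists_N5 (x * y) (y * x) (by rw [mul_x1, mul_x1, add_comm]) (by rw [mul_x2, mul_x2, add_comm])
    (by rw [mul_x3, mul_x3, hx, hy]; ring) (by rw [mul_x4, mul_x4, hx, hy]; ring) (by rw [mul_x5, mul_x5, hx, hy]; ring)
  rw [h]
  congr 1
  ext <;> simp only [ce, mul_x6, mul_x7, mul_x8, hx, hy] <;> ring

end Cfsg.Agent.H776.ThS
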