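import Cfsg.Agent.H776.ThGroup0
import Mathlib.Algebra.Group.MinimalAxioms

/-!
The group structure on the model of the Sylow 3-subgroup of the Thompson group.
-/

set_option autoImplicit false
set_option linter.style.longLine false

namespace Cfsg.Agent.H776.ThS

/-- multiplication -/
@[irreducible] def mulP (x y : P) : P := mulV A3 x y

/-- inversion -/
@[irreducible] def invP (x : P) : P := invV A3 x

instance instMulP : Mul P := ⟨mulP⟩
instance instOneP : One P := ⟨oneV A3⟩
instance instInvP : Inv P := ⟨invP⟩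

theorem mul_def (x y : P) : x * y = mulV A3 x y := by
  show mulP x y = _
  unfold mulP
  rfl
theorem one_def : (1 : P) = oneV A3 := rfl
theorem inv_def (x : P) : x⁻¹ = invV A3 x := by
  show invP x = _
  unfold invP
  rfl

theorem P_assoc (x y z : P) : x * y * z = x * (y * z) := by
  rw [mul_def, mul_def, mul_def, mul_def]
  exact mulV_assoc x y z

theorem P_one_mul (x : P) : 1 * x = x := by
  rw [mul_def, one_def]
  exact one_mulV x

theorem P_inv_mul (x : P) : x⁻¹ * x = 1 := by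
  rw [mul_def, one_def, inv_def]
  exact inv_mulV x

instance instGroupP : Group P := Group.ofLeftAxioms P_assoc P_one_mul P_inv_mul

/-- the model as a product -/
def P.equiv : P ≃ (Fin 10 → ZMod 3) where
  toFun x := ![x.x1, x.x2, x.x3, x.x4, x.x5, x.x6, x.x7, x.x8, x.x9, x.x10]
  invFun f := ⟨f 0, f 1, f 2, f 3, f 4, f 5, f 6, f 7, f 8, f 9⟩
  left_inv x := rfl
  right_inv f := by
    funext i
    fin_cases i <;> rfl

instance instFintypeP : Fintype P := Fintype.ofEquiv _ P.equiv.symm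

theorem card_P : Nat.card P = 3 ^ 10 := by
  rw [Nat.card_congr P.equiv, Nat.card_eq_fintype_card, Fintype.card_fun, ZMod.card, Fintype.card_fin]

/-- the generators -/
def h (i : Fin 10) : P := gV A3 i

/-! ### translation of formulas -/

theorem GT.ev_mul (a b : GT) (l : List (ZMod 3)) : (GT.mul a b).ev A3 l = a.ev A3 l * b.ev A3 l := by
  rw [mul_def]
  rfl
theorem GT.ev_inv (a : GT) (l : List (ZMod 3)) : (GT.inv a).ev A3 l = (a.ev A3 l)⁻¹ := by
  rw [inv_def]
  rfl
theorem GT.ev_one (l : List (ZMod 3)) : (GT.one).ev A3 l = 1 := rfl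
theorem FT.ev_eq (a b : GT) (l : List (ZMod 3)) : (FT.eq a b).ev A3 l = true ↔ a.ev A3 l = b.ev A3 l := eqV_A3 _ _
theorem FT.ev_isz (a : ST) (l : List (ZMod 3)) : (FT.isz a).ev A3 l = true ↔ a.ev A3 l = 0 := by
  show decide _ = true ↔ _
  rw [decide_eq_true_eq]
theorem FT.ev_tt (l : List (ZMod 3)) : (FT.tt).ev A3 l = true ↔ True := by
  show true = true ↔ True
  simp
theorem FT.ev_and (a b : FT) (l : List (ZMod 3)) : (FT.and a b).ev A3 l = true ↔ (a.ev A3 l = true ∧ b.ev A3 l = true) := by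
  show (a.ev A3 l && b.ev A3 l) = true ↔ _
  rw [Bool.and_eq_true]
theorem FT.ev_or (a b : FT) (l : List (ZMod 3)) : (FT.or a b).ev A3 l = true ↔ (a.ev A3 l = true ∨ b.ev A3 l = true) := by
  show (a.ev A3 l || b.ev A3 l) = true ↔ _
  rw [Bool.or_eq_true]
theorem FT.ev_not (a : FT) (l : List (ZMod 3)) : (FT.not a).ev A3 l = true ↔ ¬ (a.ev A3 l = true) := by
  show (! a.ev A3 l) = true ↔ _
  rw [Bool.not_eq_true', Bool.not_eq_true]
theorem FT.ev_imp (a b : FT) (l : List (ZMod 3)) : (impF a b).ev A3 l = true ↔ (a.ev A3 l = true → b.ev A3 l = true) := by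
  rw [impF, FT.ev_or, FT.ev_not]
  tauto
theorem ST.ev_var (n : ℕ) (l : List (ZMod 3)) : (ST.var n).ev A3 l = l.getD n 0 := rfl
theorem ST.ev_co (t : GT) (n : ℕ) (l : List (ZMod 3)) : (ST.co t n).ev A3 l = (t.ev A3 l).co n := rfl
theorem ST.ev_zero (l : List (ZMod 3)) : (ST.zero).ev A3 l = 0 := rfl
theorem ST.ev_one (l : List (ZMod 3)) : (ST.one).ev A3 l = 1 := rfl
theorem ST.ev_add (a b : ST) (l : List (ZMod 3)) : (ST.add a b).ev A3 l = a.ev A3 l + b.ev A3 l := rfl
theorem ST.ev_mul (a b : ST) (l : List (ZMod 3)) : (ST.mul a b).ev A3 l = a.ev A3 l * b.ev A3 l := rfl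
theorem ST.ev_neg (a : ST) (l : List (ZMod 3)) : (ST.neg a).ev A3 l = - a.ev A3 l := rfl

end Cfsg.Agent.H776.ThS
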