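import Cfsg.Agent.H776.ThEngine
import Mathlib.Tactic.FinCases

/-!
A model of the Sylow 3-subgroup (of order 3^10) of the Thompson group: the group of 10-tuples over `ZMod 3`
with an explicit polynomial multiplication.
-/

set_option autoImplicit false
set_option linter.style.longLine false
set_option linter.unusedSimpArgs false

namespace Cfsg.Agent.H776.ThS

/-- 10-tuples -/
@[ext] structure V (α : Type) where
  x1 : α
  x2 : α
  x3 : α
  x4 : α
  x5 : α
  x6 : α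
  x7 : α
  x8 : α
  x9 : α
  x10 : α
deriving DecidableEq

/-- evaluate all coordinates before going on -/
def V.seq {α β γ : Type} (A : Alg α β) (x : V α) (k : V α → γ) : γ :=
  A.seq x.x1 fun a1 =>
  A.seq x.x2 fun a2 =>
  A.seq x.x3 fun a3 =>
  A.seq x.x4 fun a4 =>
  A.seq x.x5 fun a5 =>
  A.seq x.x6 fun a6 =>
  A.seq x.x7 fun a7 =>
  A.seq x.x8 fun a8 =>
  A.seq x.x9 fun a9 =>
  A.seq x.x10 fun a10 =>
  k ⟨a1, a2, a3, a4, a5, a6, a7, a8, a9, a10⟩

theorem V.seq_eq {α β γ : Type} (A : Alg α β) (x : V α) (k : V α → γ) : V.seq A x k = k x := by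
  simp only [V.seq, A.seq_eq]

/-- map on coordinates -/
def V.map {α α' : Type} (f : α → α') (x : V α) : V α' :=
  ⟨f x.x1, f x.x2, f x.x3, f x.x4, f x.x5, f x.x6, f x.x7, f x.x8, f x.x9, f x.x10⟩

/-- right multiplication by `h_1 ^ y` -/
def R1 {α β : Type} (A : Alg α β) (x : V α) (y : α) : V α where
  x1 := (A.add y x.x1)
  x2 := x.x2
  x3 := (A.add x.x3 (A.mul x.x2 y))
  x4 := (A.add (A.add x.x4 (A.neg (A.mul x.x3 y))) (A.mul (A.mul x.x2 y) y))
  x5 := (A.add x.x5 (A.mul x.x2 y))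
  x6 := (A.add x.x6 (A.neg (A.mul (A.mul x.x2 x.x2) y)))
  x7 := (A.add (A.add x.x7 (A.mul x.x6 y)) (A.mul (A.mul x.x2 x.x3) y))
  x8 := (A.add (A.add (A.add (A.add (A.add (A.add (A.add (A.add x.x8 (A.neg (A.mul x.x7 y))) (A.mul (A.mul x.x6 y) y)) (A.neg (A.mul (A.mul x.x3 x.x3) y))) (A.mul (A.mul x.x2 x.x4) y)) (A.mul (A.mul (A.mul x.x2 x.x3) y) y)) (A.neg (A.mul x.x1 y))) (A.neg (A.mul (A.mul x.x1 y) y))) (A.neg (A.mul (A.mul x.x1 x.x1) y)))
  x9 := (A.add (A.add (A.add (A.add (A.add (A.add (A.add (A.add x.x9 (A.mul x.x2 y)) (A.neg (A.mul (A.mul x.x2 y) y))) (A.mul (A.mul (A.mul x.x2 x.x3) x.x3) y)) (A.mul (A.mul (A.mul x.x2 x.x2) x.x4) y)) (A.neg (A.mul (A.mul (A.mul (A.mul x.x2 x.x2) x.x3) y) y))) (A.mul (A.mul x.x1 x.x2) y)) (A.mul (A.mul (A.mul x.x1 x.x2) y) y)) (A.mul (A.mul (A.mul x.x1 x.x1) x.x2) y))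
  x10 := (A.add (A.add (A.add (A.add (A.add (A.add (A.add (A.add (A.add (A.add (A.add (A.add (A.add (A.add (A.add (A.add (A.add (A.add (A.add (A.add (A.add (A.add (A.add x.x10 (A.mul x.x9 y)) (A.neg (A.mul x.x3 y))) (A.neg (A.mul (A.mul x.x3 y) y))) (A.neg (A.mul (A.mul x.x3 x.x4) y))) (A.neg (A.mul (A.mul (A.mul x.x3 x.x4) x.x4) y))) (A.neg (A.mul (A.mul (A.mul x.x3 x.x3) y) y))) (A.mul (A.mul (A.mul (A.mul x.x3 x.x3) x.x4) y) y)) (A.neg (A.mul x.x2 y))) (A.neg (A.mul (A.mul x.x2 y) y))) (A.mul (A.mul (A.mul x.x2 x.x4) y) y)) (A.mul (A.mul (A.mul (A.mul x.x2 x.x4) x.x4) y) y)) (A.neg (A.mul (A.mul x.x2 x.x3) y))) (A.mul (A.mul (A.mul (A.mul x.x2 x.x3) x.x3) y) y)) (A.neg (A.mul (A.mul (A.mul x.x2 x.x2) y) y))) (A.neg (A.mul (A.mul (A.mul x.x2 x.x2) x.x5) y))) (A.mul (A.mul (A.mul (A.mul x.x2 x.x2) x.x4) y) y)) (A.mul (A.mul (A.mul x.x2 x.x2) x.x3) y)) (A.mul (A.mul x.x1 x.x3) y)) (A.mul (A.mul (A.mul x.x1 x.x3) y)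 y)) (A.mul (A.mul x.x1 x.x2) y)) (A.mul (A.mul (A.mul x.x1 x.x2) y) y)) (A.mul (A.mul (A.mul x.x1 x.x1) x.x3) y)) (A.mul (A.mul (A.mul (A.mul x.x1 x.x1) x.x2) y) y))

/-- right multiplication by `h_2 ^ y` -/
def R2 {α β : Type} (A : Alg α β) (x : V α) (y : α) : V α where
  x1 := x.x1
  x2 := (A.add y x.x2)
  x3 := x.x3
  x4 := x.x4
  x5 := x.x5
  x6 := (A.add x.x6 (A.mul x.x5 y))
  x7 := (A.add x.x7 (A.neg (A.mul x.x4 y)))
  x8 := x.x8
  x9 := (A.add (A.add (A.add x.x9 (A.neg (A.mul x.x8 y))) (A.mul x.x6 y)) (A.neg (A.mul (A.mul x.x5 y) y)))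
  x10 := (A.add (A.add (A.add (A.add x.x10 (A.mul x.x7 y)) (A.neg (A.mul (A.mul x.x5 x.x5) y))) (A.mul (A.mul x.x4 y) y)) (A.neg (A.mul (A.mul x.x4 x.x4) y)))

/-- right multiplication by `h_3 ^ y` -/
def R3 {α β : Type} (A : Alg α β) (x : V α) (y : α) : V α where
  x1 := x.x1
  x2 := x.x2
  x3 := (A.add y x.x3)
  x4 := x.x4
  x5 := x.x5
  x6 := x.x6
  x7 := (A.add x.x7 (A.mul x.x5 y))
  x8 := (A.add x.x8 (A.neg (A.mul x.x4 y)))
  x9 := (A.add (A.add x.x9 (A.neg (A.mul x.x7 y))) (A.mul (A.mul x.x5 y) y))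
  x10 := (A.add (A.add (A.add x.x10 (A.neg (A.mul x.x8 y))) (A.mul x.x6 y)) (A.neg (A.mul (A.mul x.x4 y) y)))

/-- right multiplication by `h_4 ^ y` -/
def R4 {α β : Type} (A : Alg α β) (x : V α) (y : α) : V α where
  x1 := x.x1
  x2 := x.x2
  x3 := x.x3
  x4 := (A.add y x.x4)
  x5 := x.x5
  x6 := x.x6
  x7 := x.x7
  x8 := (A.add x.x8 (A.mul x.x5 y))
  x9 := (A.add x.x9 (A.neg (A.mul x.x6 y)))
  x10 := (A.add (A.add (A.add (A.add x.x10 (A.neg (A.mul x.x7 y))) (A.mul x.x4 y)) (A.mul (A.mul x.x4 y) y)) (A.mul (A.mul x.x4 x.x4) y))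

/-- right multiplication by `h_5 ^ y` -/
def R5 {α β : Type} (A : Alg α β) (x : V α) (y : α) : V α where
  x1 := x.x1
  x2 := x.x2
  x3 := x.x3
  x4 := x.x4
  x5 := (A.add y x.x5)
  x6 := x.x6
  x7 := x.x7
  x8 := x.x8
  x9 := x.x9
  x10 := (A.add x.x10 (A.mul x.x6 y))

/-- right multiplication by `h_6 ^ y` -/
def R6 {α β : Type} (A : Alg α β) (x : V α) (y : α) : V α where
  x1 := x.x1
  x2 := x.x2
  x3 := x.x3
  x4 := x.x4
  x5 := x.x5
  x6 := A.add y x.x6
  x7 := x.x7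
  x8 := x.x8
  x9 := x.x9
  x10 := x.x10

/-- right multiplication by `h_7 ^ y` -/
def R7 {α β : Type} (A : Alg α β) (x : V α) (y : α) : V α where
  x1 := x.x1
  x2 := x.x2
  x3 := x.x3
  x4 := x.x4
  x5 := x.x5
  x6 := x.x6
  x7 := A.add y x.x7
  x8 := x.x8
  x9 := x.x9
  x10 := x.x10

/-- right multiplication by `h_8 ^ y` -/
def R8 {α β : Type} (A : Alg α β) (x : V α) (y : α) : V α where
  x1 := x.x1
  x2 := x.x2
  x3 := x.x3
  x4 := x.x4
  x5 := x.x5
  x6 := x.x6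
  x7 := x.x7
  x8 := A.add y x.x8
  x9 := x.x9
  x10 := x.x10

/-- right multiplication by `h_9 ^ y` -/
def R9 {α β : Type} (A : Alg α β) (x : V α) (y : α) : V α where
  x1 := x.x1
  x2 := x.x2
  x3 := x.x3
  x4 := x.x4
  x5 := x.x5
  x6 := x.x6
  x7 := x.x7
  x8 := x.x8
  x9 := A.add y x.x9
  x10 := x.x10

/-- right multiplication by `h_10 ^ y` -/
def R10 {α β : Type} (A : Alg α β) (x : V α) (y : α) : V α where
  x1 := x.x1
  x2 := x.x2
  x3 := x.x3
  x4 := x.x4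
  x5 := x.x5
  x6 := x.x6
  x7 := x.x7
  x8 := x.x8
  x9 := x.x9
  x10 := A.add y x.x10

theorem map_R1 {α β α' β' : Type} {A : Alg α β} {B : Alg α' β'} (h : Hom A B) (x : V α) (y : α) :
    (R1 A x y).map h.f = R1 B (x.map h.f) (h.f y) := by
  simp only [R1, V.map, h.f_add, h.f_mul, h.f_neg]

theorem map_R2 {α β α' β' : Type} {A : Alg α β} {B : Alg α' β'} (h : Hom A B) (x : V α) (y : α) :
    (R2 A x y).map h.f = R2 B (x.map h.f) (h.f y) := by
  simp only [R2, V.map, h.f_add, h.f_mul, h.f_neg]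

theorem map_R3 {α β α' β' : Type} {A : Alg α β} {B : Alg α' β'} (h : Hom A B) (x : V α) (y : α) :
    (R3 A x y).map h.f = R3 B (x.map h.f) (h.f y) := by
  simp only [R3, V.map, h.f_add, h.f_mul, h.f_neg]

theorem map_R4 {α β α' β' : Type} {A : Alg α β} {B : Alg α' β'} (h : Hom A B) (x : V α) (y : α) :
    (R4 A x y).map h.f = R4 B (x.map h.f) (h.f y) := by
  simp only [R4, V.map, h.f_add, h.f_mul, h.f_neg]

theorem map_R5 {α β α' β' : Type} {A : Alg α β} {B : Alg α' β'} (h : Hom A B) (x : V α) (y : α) :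
    (R5 A x y).map h.f = R5 B (x.map h.f) (h.f y) := by
  simp only [R5, V.map, h.f_add, h.f_mul, h.f_neg]

theorem map_R6 {α β α' β' : Type} {A : Alg α β} {B : Alg α' β'} (h : Hom A B) (x : V α) (y : α) :
    (R6 A x y).map h.f = R6 B (x.map h.f) (h.f y) := by
  simp only [R6, V.map, h.f_add, h.f_mul, h.f_neg]

theorem map_R7 {α β α' β' : Type} {A : Alg α β} {B : Alg α' β'} (h : Hom A B) (x : V α) (y : α) :
    (R7 A x y).map h.f = R7 B (x.map h.f) (h.f y) := by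
  simp only [R7, V.map, h.f_add, h.f_mul, h.f_neg]

theorem map_R8 {α β α' β' : Type} {A : Alg α β} {B : Alg α' β'} (h : Hom A B) (x : V α) (y : α) :
    (R8 A x y).map h.f = R8 B (x.map h.f) (h.f y) := by
  simp only [R8, V.map, h.f_add, h.f_mul, h.f_neg]

theorem map_R9 {α β α' β' : Type} {A : Alg α β} {B : Alg α' β'} (h : Hom A B) (x : V α) (y : α) :
    (R9 A x y).map h.f = R9 B (x.map h.f) (h.f y) := by
  simp only [R9, V.map, h.f_add, h.f_mul, h.f_neg]

theorem map_R10 {α β α' β' : Type} {A : Alg α β} {B : Alg α' β'} (h : Hom A B) (x : V α) (y : α) :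
    (R10 A x y).map h.f = R10 B (x.map h.f) (h.f y) := by
  simp only [R10, V.map, h.f_add, h.f_mul, h.f_neg]

/-- multiplication -/
def mulV {α β : Type} (A : Alg α β) (x y : V α) : V α :=
  V.seq A x fun x => V.seq A y fun y =>
  V.seq A (R1 A x y.x1) fun x =>
  V.seq A (R2 A x y.x2) fun x =>
  V.seq A (R3 A x y.x3) fun x =>
  V.seq A (R4 A x y.x4) fun x =>
  V.seq A (R5 A x y.x5) fun x =>
  V.seq A (R6 A x y.x6) fun x =>
  V.seq A (R7 A x y.x7) fun x =>
  V.seq A (R8 A x y.x8) fun x =>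
  V.seq A (R9 A x y.x9) fun x =>
  V.seq A (R10 A x y.x10) fun x =>
  x

theorem mulV_eq {α β : Type} (A : Alg α β) (x y : V α) : mulV A x y =
    R10 A (R9 A (R8 A (R7 A (R6 A (R5 A (R4 A (R3 A (R2 A (R1 A x y.x1) y.x2) y.x3) y.x4) y.x5) y.x6) y.x7) y.x8) y.x9) y.x10 := by
  simp only [mulV, V.seq_eq]

theorem map_mulV {α β α' β' : Type} {A : Alg α β} {B : Alg α' β'} (h : Hom A B) (x y : V α) :
    (mulV A x y).map h.f = mulV B (x.map h.f) (y.map h.f) := by
  rw [mulV_eq, mulV_eq]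
  simp only [map_R1, map_R2, map_R3, map_R4, map_R5, map_R6, map_R7, map_R8, map_R9, map_R10]
  rfl

/-- the identity -/
def oneV {α β : Type} (A : Alg α β) : V α := ⟨A.z, A.z, A.z, A.z, A.z, A.z, A.z, A.z, A.z, A.z⟩

theorem map_oneV {α β α' β' : Type} {A : Alg α β} {B : Alg α' β'} (h : Hom A B) :
    (oneV A).map h.f = oneV B := by
  simp only [oneV, V.map, h.f_z]

/-- the generators -/
def gV {α β : Type} (A : Alg α β) : ℕ → V α
  | 0 => ⟨A.o, A.z, A.z, A.z, A.z, A.z, A.z, A.z, A.z, A.z⟩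
  | 1 => ⟨A.z, A.o, A.z, A.z, A.z, A.z, A.z, A.z, A.z, A.z⟩
  | 2 => ⟨A.z, A.z, A.o, A.z, A.z, A.z, A.z, A.z, A.z, A.z⟩
  | 3 => ⟨A.z, A.z, A.z, A.o, A.z, A.z, A.z, A.z, A.z, A.z⟩
  | 4 => ⟨A.z, A.z, A.z, A.z, A.o, A.z, A.z, A.z, A.z, A.z⟩
  | 5 => ⟨A.z, A.z, A.z, A.z, A.z, A.o, A.z, A.z, A.z, A.z⟩
  | 6 => ⟨A.z, A.z, A.z, A.z, A.z, A.z, A.o, A.z, A.z, A.z⟩
  | 7 => ⟨A.z, A.z, A.z, A.z, A.z, A.z, A.z, A.o, A.z, A.z⟩
  | 8 => ⟨A.z, A.z, A.z, A.z, A.z, A.z, A.z, A.z, A.o, A.z⟩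
  | 9 => ⟨A.z, A.z, A.z, A.z, A.z, A.z, A.z, A.z, A.z, A.o⟩
  | _ => oneV A

theorem map_gV {α β α' β' : Type} {A : Alg α β} {B : Alg α' β'} (h : Hom A B) (k : ℕ) :
    (gV A k).map h.f = gV B k := by
  rcases k with _ | _ | _ | _ | _ | _ | _ | _ | _ | _ | k <;>
    simp only [gV, V.map, h.f_z, h.f_o, oneV]

/-- inversion: `x ^ 26` -/
def invV {α β : Type} (A : Alg α β) (x : V α) : V α :=
  V.seq A x fun x => V.seq A (mulV A x x) fun x2 => V.seq A (mulV A x2 x) fun x3 => V.seq A (mulV A x3 x3) fun x6 =>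
  V.seq A (mulV A x6 x3) fun x9 => V.seq A (mulV A x9 x9) fun x18 => V.seq A (mulV A x18 x6) fun x24 =>
  mulV A x24 x2

theorem invV_eq {α β : Type} (A : Alg α β) (x : V α) : invV A x =
    (let x2 := mulV A x x; let x3 := mulV A x2 x; let x6 := mulV A x3 x3; let x9 := mulV A x6 x3;
      let x18 := mulV A x9 x9; let x24 := mulV A x18 x6; mulV A x24 x2) := by
  simp only [invV, V.seq_eq]

theorem map_invV {α β α' β' : Type} {A : Alg α β} {B : Alg α' β'} (h : Hom A B) (x : V α) :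
    (invV A x).map h.f = invV B (x.map h.f) := by
  rw [invV_eq, invV_eq]
  simp only [map_mulV]

/-- equality -/
def eqV {α β : Type} (A : Alg α β) (x y : V α) : β :=
  V.seq A x fun x => V.seq A y fun y =>
  A.and (A.and (A.and (A.and (A.and (A.and (A.and (A.and (A.and (A.isz (A.add x.x1 (A.neg y.x1))) (A.isz (A.add x.x2 (A.neg y.x2)))) (A.isz (A.add x.x3 (A.neg y.x3)))) (A.isz (A.add x.x4 (A.neg y.x4)))) (A.isz (A.add x.x5 (A.neg y.x5)))) (A.isz (A.add x.x6 (A.neg y.x6)))) (A.isz (A.add x.x7 (A.neg y.x7)))) (A.isz (A.add x.x8 (A.neg y.x8)))) (A.isz (A.add x.x9 (A.neg y.x9)))) (A.isz (A.add x.x10 (A.neg y.x10)))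

theorem g_eqV {α β α' β' : Type} {A : Alg α β} {B : Alg α' β'} (h : Hom A B) (x y : V α) :
    h.g (eqV A x y) = eqV B (x.map h.f) (y.map h.f) := by
  simp only [eqV, V.seq_eq, h.g_and, h.g_isz, h.f_add, h.f_neg, V.map]

theorem eqV_A3 (x y : V (ZMod 3)) : eqV A3 x y = true ↔ x = y := by
  simp only [eqV, V.seq_eq, A3, Bool.and_eq_true, decide_eq_true_eq, V.ext_iff, ← sub_eq_add_neg, sub_eq_zero, and_assoc]

/-! ### formulas -/

/-- scalars: variables -/
inductive GT where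
  | el (f : List (Option ℕ)) : GT
  | one : GT
  | g (k : ℕ) : GT
  | mul (a b : GT) : GT
  | inv (a : GT) : GT

/-- value of an optional variable -/
def ov {α β : Type} (A : Alg α β) (l : List α) : Option ℕ → α
  | none => A.z
  | some n => l.getD n A.z

/-- evaluation of group terms -/
def GT.ev {α β : Type} (A : Alg α β) (l : List α) : GT → V α
  | el f => ⟨ov A l (f.getD 0 none), ov A l (f.getD 1 none), ov A l (f.getD 2 none), ov A l (f.getD 3 none),
      ov A l (f.getD 4 none), ov A l (f.getD 5 none), ov A l (f.getD 6 none), ov A l (f.getD 7 none),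
      ov A l (f.getD 8 none), ov A l (f.getD 9 none)⟩
  | one => oneV A
  | g k => gV A k
  | mul a b => mulV A (a.ev A l) (b.ev A l)
  | inv a => invV A (a.ev A l)

theorem map_ov {α β α' β' : Type} {A : Alg α β} {B : Alg α' β'} (h : Hom A B) (l : List α) (o : Option ℕ) :
    h.f (ov A l o) = ov B (l.map h.f) o := by
  cases o with
  | none => exact h.f_z
  | some n =>
    show h.f (l.getD n A.z) = (l.map h.f).getD n B.z
    rw [List.getD_eq_getElem?_getD, List.getD_eq_getElem?_getD, List.getElem?_map, ← h.f_z]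
    cases l[n]? <;> rfl

theorem GT.map_ev {α β α' β' : Type} {A : Alg α β} {B : Alg α' β'} (h : Hom A B) (l : List α) (t : GT) :
    (t.ev A l).map h.f = t.ev B (l.map h.f) := by
  induction t with
  | el f => simp only [GT.ev, V.map, map_ov]
  | one => exact map_oneV h
  | g k => exact map_gV h k
  | mul a b iha ihb => simp only [GT.ev, map_mulV, iha, ihb]
  | inv a iha => simp only [GT.ev, map_invV, iha]

/-- the `k`-th coordinate (starting at 0) -/
def V.co {α : Type} (x : V α) : ℕ → α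
  | 0 => x.x1
  | 1 => x.x2
  | 2 => x.x3
  | 3 => x.x4
  | 4 => x.x5
  | 5 => x.x6
  | 6 => x.x7
  | 7 => x.x8
  | 8 => x.x9
  | _ => x.x10

theorem V.map_co {α α' : Type} (f : α → α') (x : V α) (k : ℕ) : (x.map f).co k = f (x.co k) := by
  rcases k with _ | _ | _ | _ | _ | _ | _ | _ | _ | _ | k <;> rfl

/-- scalars -/
inductive ST where
  | var (n : ℕ) : ST
  | co (t : GT) (k : ℕ) : ST
  | zero : ST
  | one : ST
  | add (a b : ST) : ST
  | mul (a b : ST) : ST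
  | neg (a : ST) : ST

/-- evaluation of scalar terms -/
def ST.ev {α β : Type} (A : Alg α β) (l : List α) : ST → α
  | var n => l.getD n A.z
  | co t k => (t.ev A l).co k
  | zero => A.z
  | one => A.o
  | add a b => A.add (a.ev A l) (b.ev A l)
  | mul a b => A.mul (a.ev A l) (b.ev A l)
  | neg a => A.neg (a.ev A l)

theorem ST.map_ev {α β α' β' : Type} {A : Alg α β} {B : Alg α' β'} (h : Hom A B) (l : List α) (t : ST) :
    h.f (t.ev A l) = t.ev B (l.map h.f) := by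
  induction t with
  | var n => exact map_ov h l (some n)
  | co t k => simp only [ST.ev, ← GT.map_ev, V.map_co]
  | zero => exact h.f_z
  | one => exact h.f_o
  | add a b iha ihb => simp only [ST.ev, h.f_add, iha, ihb]
  | mul a b iha ihb => simp only [ST.ev, h.f_mul, iha, ihb]
  | neg a iha => simp only [ST.ev, h.f_neg, iha]

/-- formulas -/
inductive FT where
  | isz (a : ST) : FT
  | eq (a b : GT) : FT
  | tt : FT
  | and (a b : FT) : FT
  | or (a b : FT) : FT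
  | not (a : FT) : FT

/-- evaluation of formulas -/
def FT.ev {α β : Type} (A : Alg α β) (l : List α) : FT → β
  | isz a => A.isz (a.ev A l)
  | eq a b => eqV A (a.ev A l) (b.ev A l)
  | tt => A.tt
  | and a b => A.and (a.ev A l) (b.ev A l)
  | or a b => A.or (a.ev A l) (b.ev A l)
  | not a => A.not (a.ev A l)

theorem FT.map_ev {α β α' β' : Type} {A : Alg α β} {B : Alg α' β'} (h : Hom A B) (l : List α) (t : FT) :
    h.g (t.ev A l) = t.ev B (l.map h.f) := by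
  induction t with
  | isz a => simp only [FT.ev, h.g_isz, ST.map_ev]
  | eq a b => simp only [FT.ev, g_eqV, GT.map_ev]
  | tt => exact h.g_tt
  | and a b iha ihb => simp only [FT.ev, h.g_and, iha, ihb]
  | or a b iha ihb => simp only [FT.ev, h.g_or, iha, ihb]
  | not a iha => simp only [FT.ev, h.g_not, iha]

/-- a formula as a natural formula -/
def FT.form (t : FT) : Form where
  f A l := t.ev A l
  nat _ _ h l := FT.map_ev h l t

/-- the checking principle -/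
theorem FT.holds (t : FT) (k : ℕ) (h : t.form.check k = true) (ds : List (ZMod 3)) (hds : ds.length = k) :
    t.ev A3 ds = true := t.form.of_check k h ds hds

end Cfsg.Agent.H776.ThS
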