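import Cfsg.Agent.H776.ThGroup
import Mathlib.Tactic.LinearCombination
import Mathlib.Algebra.Group.Subgroup.Pointwise

/-!
Coordinates of products in the model, and the characteristic subgroups.
-/

set_option autoImplicit false
set_option linter.style.longLine false

namespace Cfsg.Agent.H776.ThS

theorem one_x1 : (1 : P).x1 = 0 := rfl
theorem one_x2 : (1 : P).x2 = 0 := rfl
theorem one_x3 : (1 : P).x3 = 0 := rfl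
theorem one_x4 : (1 : P).x4 = 0 := rfl
theorem one_x5 : (1 : P).x5 = 0 := rfl
theorem one_x6 : (1 : P).x6 = 0 := rfl
theorem one_x7 : (1 : P).x7 = 0 := rfl
theorem one_x8 : (1 : P).x8 = 0 := rfl
theorem one_x9 : (1 : P).x9 = 0 := rfl
theorem one_x10 : (1 : P).x10 = 0 := rfl

/-- the coordinates of a product, in terms of intermediate results -/
theorem mul_eq (x y : P) : x * y = R10 A3 (R9 A3 (R8 A3 (R7 A3 (R6 A3 (R5 A3 (R4 A3 (R3 A3 (R2 A3 (R1 A3 x y.x1) y.x2)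
    y.x3) y.x4) y.x5) y.x6) y.x7) y.x8) y.x9) y.x10 := by
  rw [mul_def, mulV_eq]

theorem mul_x1 (x y : P) : (x * y).x1 = x.x1 + y.x1 := by
  simp only [mul_eq, R1, R2, R3, R4, R5, R6, R7, R8, R9, R10, A3]
  ring

theorem mul_x2 (x y : P) : (x * y).x2 = x.x2 + y.x2 := by
  simp only [mul_eq, R1, R2, R3, R4, R5, R6, R7, R8, R9, R10, A3]
  ring

theorem mul_x3 (x y : P) : (x * y).x3 = x.x3 + y.x3 + x.x2 * y.x1 := by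
  simp only [mul_eq, R1, R2, R3, R4, R5, R6, R7, R8, R9, R10, A3]
  ring

theorem mul_x4 (x y : P) : (x * y).x4 = x.x4 + y.x4 - x.x3 * y.x1 + x.x2 * y.x1 ^ 2 := by
  simp only [mul_eq, R1, R2, R3, R4, R5, R6, R7, R8, R9, R10, A3]
  ring

theorem mul_x5 (x y : P) : (x * y).x5 = x.x5 + y.x5 + x.x2 * y.x1 := by
  simp only [mul_eq, R1, R2, R3, R4, R5, R6, R7, R8, R9, R10, A3]
  ring

theorem mul_x6 (x y : P) : (x * y).x6 = x.x6 + y.x6 - x.x2 ^ 2 * y.x1 + (x.x5 + x.x2 * y.x1) * y.x2 := by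
  simp only [mul_eq, R1, R2, R3, R4, R5, R6, R7, R8, R9, R10, A3]
  ring

theorem mul_x7 (x y : P) : (x * y).x7 = x.x7 + y.x7 + x.x6 * y.x1 + x.x2 * x.x3 * y.x1
    - (x.x4 - x.x3 * y.x1 + x.x2 * y.x1 ^ 2) * y.x2 + (x.x5 + x.x2 * y.x1) * y.x3 := by
  simp only [mul_eq, R1, R2, R3, R4, R5, R6, R7, R8, R9, R10, A3]
  ring

theorem mul_x8 (x y : P) : (x * y).x8 = x.x8 + y.x8 - x.x7 * y.x1 + x.x6 * y.x1 ^ 2 - x.x3 ^ 2 * y.x1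
    + x.x2 * x.x4 * y.x1 + x.x2 * x.x3 * y.x1 ^ 2 - x.x1 * y.x1 - x.x1 * y.x1 ^ 2 - x.x1 ^ 2 * y.x1
    - (x.x4 - x.x3 * y.x1 + x.x2 * y.x1 ^ 2) * y.x3 + (x.x5 + x.x2 * y.x1) * y.x4 := by
  simp only [mul_eq, R1, R2, R3, R4, R5, R6, R7, R8, R9, R10, A3]
  ring

/-! ### products in `E1` -/

theorem mulE_x9 (x y : P) (hy : y.x1 = 0) : (x * y).x9 = x.x9 + y.x9 - x.x8 * y.x2 + x.x6 * y.x2 - x.x5 * y.x2 ^ 2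
    - (x.x7 - x.x4 * y.x2) * y.x3 + x.x5 * y.x3 ^ 2 - (x.x6 + x.x5 * y.x2) * y.x4 := by
  simp only [mul_eq, R1, R2, R3, R4, R5, R6, R7, R8, R9, R10, A3, hy]
  ring

theorem mulE_x10 (x y : P) (hy : y.x1 = 0) : (x * y).x10 = x.x10 + y.x10 + x.x7 * y.x2 - x.x5 ^ 2 * y.x2
    + x.x4 * y.x2 ^ 2 - x.x4 ^ 2 * y.x2 - x.x8 * y.x3 + (x.x6 + x.x5 * y.x2) * y.x3 - x.x4 * y.x3 ^ 2
    - (x.x7 - x.x4 * y.x2 + x.x5 * y.x3) * y.x4 + x.x4 * y.x4 + x.x4 * y.x4 ^ 2 + x.x4 ^ 2 * y.x4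
    + (x.x6 + x.x5 * y.x2) * y.x5 := by
  simp only [mul_eq, R1, R2, R3, R4, R5, R6, R7, R8, R9, R10, A3, hy]
  ring

/-! ### right multiplication by elements of `N5`: addition -/

theorem mulN_x9 (x y : P) (h1 : y.x1 = 0) (h2 : y.x2 = 0) (h3 : y.x3 = 0) (h4 : y.x4 = 0) :
    (x * y).x9 = x.x9 + y.x9 := by
  rw [mulE_x9 x y h1, h2, h3, h4]
  ring

theorem mulN_x10 (x y : P) (h1 : y.x1 = 0) (h2 : y.x2 = 0) (h3 : y.x3 = 0) (h4 : y.x4 = 0) (h5 : y.x5 = 0) :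
    (x * y).x10 = x.x10 + y.x10 := by
  rw [mulE_x10 x y h1, h2, h3, h4, h5]
  ring

/-! ### subgroups -/

/-- a finite group: closure under multiplication suffices -/
def subOf (p : P → Prop) (h1 : p 1) (hm : ∀ x y, p x → p y → p (x * y)) : Subgroup P where
  carrier := {x | p x}
  one_mem' := h1
  mul_mem' := fun {x y} hx hy => hm x y hx hy
  inv_mem' := fun {x} hx => by
    have h : ∀ n : ℕ, p (x ^ n) := fun n => by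
      induction n with
      | zero => rw [pow_zero]; exact h1
      | succ n ih => rw [pow_succ]; exact hm _ _ ih hx
    have h2 : x⁻¹ = x ^ (Nat.card P - 1) := by
      rw [eq_comm, ← mul_eq_one_iff_eq_inv, ← pow_succ, Nat.sub_add_cancel Nat.card_pos]
      exact pow_card_eq_one'
    show p x⁻¹
    rw [h2]
    exact h _

theorem mem_subOf (p : P → Prop) (h1 : p 1) (hm : ∀ x y, p x → p y → p (x * y)) (x : P) :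
    x ∈ subOf p h1 hm ↔ p x := Iff.rfl

/-- order `3^9` -/
def E1 : Subgroup P := subOf (fun x => x.x1 = 0) rfl fun x y hx hy => by
  rw [mul_x1, hx, hy, add_zero]

/-- order `3^9` -/
def E2 : Subgroup P := subOf (fun x => x.x2 = 0) rfl fun x y hx hy => by
  rw [mul_x2, hx, hy, add_zero]

/-- order `3^8` -/
def Z6 : Subgroup P := subOf (fun x => x.x1 = 0 ∧ x.x2 = 0) ⟨rfl, rfl⟩ fun x y hx hy => by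
  rw [mul_x1, mul_x2, hx.1, hx.2, hy.1, hy.2, add_zero]
  exact ⟨rfl, rfl⟩

/-- order `3^7` -/
def Y7 : Subgroup P := subOf (fun x => x.x1 = 0 ∧ x.x2 = 0 ∧ x.x3 = 0) ⟨rfl, rfl, rfl⟩ fun x y hx hy => by
  obtain ⟨a1, a2, a3⟩ := hx
  obtain ⟨b1, b2, b3⟩ := hy
  rw [mul_x1, mul_x2, mul_x3, a1, a2, a3, b1, b2, b3]
  simp

/-- order `3^6` -/
def X6 : Subgroup P := subOf (fun x => x.x1 = 0 ∧ x.x2 = 0 ∧ x.x3 = 0 ∧ x.x4 = 0) ⟨rfl, rfl, rfl, rfl⟩ fun x y hx hy => by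
  obtain ⟨a1, a2, a3, a4⟩ := hx
  obtain ⟨b1, b2, b3, b4⟩ := hy
  rw [mul_x1, mul_x2, mul_x3, mul_x4, a1, a2, a3, a4, b1, b2, b3, b4]
  simp

/-- order `3^5`, elementary abelian -/
def N5 : Subgroup P := subOf (fun x => x.x1 = 0 ∧ x.x2 = 0 ∧ x.x3 = 0 ∧ x.x4 = 0 ∧ x.x5 = 0) ⟨rfl, rfl, rfl, rfl, rfl⟩
    fun x y hx hy => by
  obtain ⟨a1, a2, a3, a4, a5⟩ := hx
  obtain ⟨b1, b2, b3, b4, b5⟩ := hy
  rw [mul_x1, mul_x2, mul_x3, mul_x4, mul_x5, a1, a2, a3, a4, a5, b1, b2, b3, b4, b5]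
  simp

/-- order `3^4` -/
def Z4 : Subgroup P := subOf (fun x => x.x1 = 0 ∧ x.x2 = 0 ∧ x.x3 = 0 ∧ x.x4 = 0 ∧ x.x5 = 0 ∧ x.x6 = 0)
    ⟨rfl, rfl, rfl, rfl, rfl, rfl⟩ fun x y hx hy => by
  obtain ⟨a1, a2, a3, a4, a5, a6⟩ := hx
  obtain ⟨b1, b2, b3, b4, b5, b6⟩ := hy
  rw [mul_x1, mul_x2, mul_x3, mul_x4, mul_x5, mul_x6, a1, a2, a3, a4, a5, a6, b1, b2, b3, b4, b5, b6]
  simp

/-- order `3^3` -/
def Z3 : Subgroup P := subOf (fun x => x.x1 = 0 ∧ x.x2 = 0 ∧ x.x3 = 0 ∧ x.x4 = 0 ∧ x.x5 = 0 ∧ x.x6 = 0 ∧ x.x7 = 0)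
    ⟨rfl, rfl, rfl, rfl, rfl, rfl, rfl⟩ fun x y hx hy => by
  obtain ⟨a1, a2, a3, a4, a5, a6, a7⟩ := hx
  obtain ⟨b1, b2, b3, b4, b5, b6, b7⟩ := hy
  rw [mul_x1, mul_x2, mul_x3, mul_x4, mul_x5, mul_x6, mul_x7, a1, a2, a3, a4, a5, a6, a7, b1, b2, b3, b4, b5, b6, b7]
  simp

/-- order `3^2`, the second centre -/
def Z2 : Subgroup P := subOf (fun x => x.x1 = 0 ∧ x.x2 = 0 ∧ x.x3 = 0 ∧ x.x4 = 0 ∧ x.x5 = 0 ∧ x.x6 = 0 ∧ x.x7 = 0 ∧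
    x.x8 = 0) ⟨rfl, rfl, rfl, rfl, rfl, rfl, rfl, rfl⟩ fun x y hx hy => by
  obtain ⟨a1, a2, a3, a4, a5, a6, a7, a8⟩ := hx
  obtain ⟨b1, b2, b3, b4, b5, b6, b7, b8⟩ := hy
  rw [mul_x1, mul_x2, mul_x3, mul_x4, mul_x5, mul_x6, mul_x7, mul_x8, a1, a2, a3, a4, a5, a6, a7, a8, b1, b2, b3, b4,
    b5, b6, b7, b8]
  simp

/-- order `3`, the centre -/
def Z1 : Subgroup P := subOf (fun x => x.x1 = 0 ∧ x.x2 = 0 ∧ x.x3 = 0 ∧ x.x4 = 0 ∧ x.x5 = 0 ∧ x.x6 = 0 ∧ x.x7 = 0 ∧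
    x.x8 = 0 ∧ x.x9 = 0) ⟨rfl, rfl, rfl, rfl, rfl, rfl, rfl, rfl, rfl⟩ fun x y hx hy => by
  obtain ⟨a1, a2, a3, a4, a5, a6, a7, a8, a9⟩ := hx
  obtain ⟨b1, b2, b3, b4, b5, b6, b7, b8, b9⟩ := hy
  rw [mul_x1, mul_x2, mul_x3, mul_x4, mul_x5, mul_x6, mul_x7, mul_x8, mulE_x9 _ _ b1, a1, a2, a3, a4, a5, a6, a7, a8, a9,
    b1, b2, b3, b4, b5, b6, b7, b8, b9]
  simp

theorem mem_E1 {x : P} : x ∈ E1 ↔ x.x1 = 0 := Iff.rfl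
theorem mem_E2 {x : P} : x ∈ E2 ↔ x.x2 = 0 := Iff.rfl
theorem mem_Z6 {x : P} : x ∈ Z6 ↔ x.x1 = 0 ∧ x.x2 = 0 := Iff.rfl
theorem mem_Y7 {x : P} : x ∈ Y7 ↔ x.x1 = 0 ∧ x.x2 = 0 ∧ x.x3 = 0 := Iff.rfl
theorem mem_X6 {x : P} : x ∈ X6 ↔ x.x1 = 0 ∧ x.x2 = 0 ∧ x.x3 = 0 ∧ x.x4 = 0 := Iff.rfl
theorem mem_N5 {x : P} : x ∈ N5 ↔ x.x1 = 0 ∧ x.x2 = 0 ∧ x.x3 = 0 ∧ x.x4 = 0 ∧ x.x5 = 0 := Iff.rfl
theorem mem_Z4 {x : P} : x ∈ Z4 ↔ x.x1 = 0 ∧ x.x2 = 0 ∧ x.x3 = 0 ∧ x.x4 = 0 ∧ x.x5 = 0 ∧ x.x6 = 0 := Iff.rfl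
theorem mem_Z3 {x : P} : x ∈ Z3 ↔ x.x1 = 0 ∧ x.x2 = 0 ∧ x.x3 = 0 ∧ x.x4 = 0 ∧ x.x5 = 0 ∧ x.x6 = 0 ∧ x.x7 = 0 := Iff.rfl
theorem mem_Z2 {x : P} : x ∈ Z2 ↔ x.x1 = 0 ∧ x.x2 = 0 ∧ x.x3 = 0 ∧ x.x4 = 0 ∧ x.x5 = 0 ∧ x.x6 = 0 ∧ x.x7 = 0 ∧
    x.x8 = 0 := Iff.rfl
theorem mem_Z1 {x : P} : x ∈ Z1 ↔ x.x1 = 0 ∧ x.x2 = 0 ∧ x.x3 = 0 ∧ x.x4 = 0 ∧ x.x5 = 0 ∧ x.x6 = 0 ∧ x.x7 = 0 ∧
    x.x8 = 0 ∧ x.x9 = 0 := Iff.rfl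

end Cfsg.Agent.H776.ThS
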